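import Cfsg.Agent.H934.MF.TwoT7
import Cfsg.Agent.H934.MF.TwoT8
import Cfsg.Agent.H934.MF.Diag
import Cfsg.Agent.H150.MF.Big

/-!
# `SL_7` and `SL_8` over the field with two elements

For a field `K` with `Nat.card K = 2`:
* `irr7`, `irr8` : `f7 K = X ^ 7 + X + 1`, `f8 K = X ^ 8 + X ^ 4 + X ^ 3 + X ^ 2 + 1` are irreducible;
* `cert7`, `cert8` : there is `c` in `SL_n(K)` with charpoly `f`, every element with charpoly `f` is conjugate to `c`,
  and every `A` different from 1 is a product of two conjugates of `c`;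
* `eig7`, `eig8` : an extension field `L` with `z` of order 127 resp. 255, such that every matrix with charpoly `f`
  is conjugate over `L` to the diagonal matrix with entries `z ^ (2 ^ a)`.
-/

set_option autoImplicit false
set_option maxRecDepth 20000

namespace Cfsg.Agent.H934.MF

open Matrix Polynomial

universe u

/-- coprimality check -/
def copCheck {R : Type*} [CommRing R] [DecidableEq R] (l a b : List R) (e : ℕ) : Bool :=
  eqL (addL (mulL a (l ++ [1])) (mulL b (xk e))) [1]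

theorem cop_of_check {R : Type*} [CommRing R] [DecidableEq R] {l a b : List R} {e : ℕ}
    (h : copCheck l a b e = true) : IsCoprime (mono l) (X ^ e - 1) := by
  have h2 := toP_eq h
  rw [toP_addL, toP_mulL, toP_mulL, toP_xk] at h2
  refine ⟨_, _, h2.trans ?_⟩
  rw [toP, toP, C_1]; ring

theorem dvd_of_check {R : Type*} [CommRing R] [DecidableEq R] {l h : List R} {N : ℕ}
    (hc : eqL (mulL (l ++ [1]) h) (xk N) = true) : mono l ∣ X ^ N - 1 := by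
  have h1 := toP_eq hc
  rw [toP_mulL, toP_xk] at h1
  exact ⟨_, h1.symm⟩

/-- the polynomial of degree 7 -/
noncomputable def f7 (K : Type u) [Field K] : K[X] := X ^ 7 + X + 1

/-- the polynomial of degree 8 -/
noncomputable def f8 (K : Type u) [Field K] : K[X] := X ^ 8 + X ^ 4 + X ^ 3 + X ^ 2 + 1

theorem mono7 : mono (zl lSeven) = f7 (ZMod 2) := by
  simp only [mono, zl, lSeven, List.map_cons, List.map_nil, List.cons_append, List.nil_append, toP, f7]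
  simp
  ring

theorem mono8 : mono (zl lEight) = f8 (ZMod 2) := by
  simp only [mono, zl, lEight, List.map_cons, List.map_nil, List.cons_append, List.nil_append, toP, f8]
  simp
  ring

section

variable {K : Type u} [Field K]

theorem exists_equiv (hK : Nat.card K = 2) : Nonempty (ZMod 2 ≃+* K) := by
  haveI : Finite K := Nat.finite_of_card_ne_zero (by rw [hK]; norm_num)
  haveI : Fintype K := Fintype.ofFinite K
  exact ⟨ZMod.ringEquivOfPrime K Nat.prime_two (by rw [← Nat.card_eq_fintype_card, hK])⟩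

theorem f7_map {L : Type*} [Field L] (e : K →+* L) : (f7 K).map e = f7 L := by
  simp [f7]

theorem f8_map {L : Type*} [Field L] (e : K →+* L) : (f8 K).map e = f8 L := by
  simp [f8]

theorem irr_map {p : (ZMod 2)[X]} (h : Irreducible p) (e : ZMod 2 ≃+* K) : Irreducible (p.map (e : ZMod 2 →+* K)) := by
  have := (MulEquiv.irreducible_iff (Polynomial.mapEquiv e)).2 h
  exact this

theorem det_one (hK : Nat.card K = 2) {x : K} (hx : x ≠ 0) : x = 1 := by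
  obtain ⟨e⟩ := exists_equiv hK
  obtain ⟨y, rfl⟩ := e.surjective x
  have h1 : y ≠ 0 := fun h => hx (by rw [h, map_zero])
  have h2 : ∀ y : ZMod 2, y ≠ 0 → y = 1 := by decide
  rw [h2 y h1, map_one]

/-- the transfer to `K` -/
theorem transfer (hK : Nat.card K = 2) {n : ℕ} {f : (ZMod 2)[X]} (hf : Irreducible f) (hf1 : f.coeff 0 ≠ 0)
    (hfd : f.natDegree = n) (hn : 0 < n)
    (hprod : ∀ A : Matrix (Fin n) (Fin n) (ZMod 2), A.det ≠ 0 → A ≠ 1 →
      ∃ X Y : Matrix (Fin n) (Fin n) (ZMod 2), A = X * Y ∧ X.charpoly = f ∧ Y.charpoly = f)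
    (e : ZMod 2 ≃+* K) (A : Matrix.SpecialLinearGroup (Fin n) K) (hA : A ≠ 1) :
    ∃ X Y : Matrix.SpecialLinearGroup (Fin n) K, A = X * Y ∧
      (X : Matrix (Fin n) (Fin n) K).charpoly = f.map (e : ZMod 2 →+* K) ∧
      (Y : Matrix (Fin n) (Fin n) K).charpoly = f.map (e : ZMod 2 →+* K) := by
  obtain ⟨B, hB⟩ : ∃ B : Matrix (Fin n) (Fin n) (ZMod 2), B = (A : Matrix (Fin n) (Fin n) K).map e.symm := ⟨_, rfl⟩
  have hBA : B.map e = (A : Matrix (Fin n) (Fin n) K) := by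
    rw [hB]
    ext i j
    simp
  have hmapdet : ∀ C : Matrix (Fin n) (Fin n) (ZMod 2), (C.map e).det = e C.det := fun C =>
    (RingHom.map_det (e : ZMod 2 →+* K) C).symm
  have hBd : B.det ≠ 0 := by
    intro h0
    have h1 := hmapdet B
    rw [hBA, h0, map_zero, A.2] at h1
    exact one_ne_zero h1
  have hB1 : B ≠ 1 := by
    rintro rfl
    apply hA
    apply Subtype.ext
    rw [← hBA]
    exact Matrix.map_one _ (map_zero _) (map_one _)
  obtain ⟨X', Y', h1, h2, h3⟩ := hprod B hBd hB1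
  have hdet : ∀ C : Matrix (Fin n) (Fin n) (ZMod 2), C.charpoly = f → (C.map e).det = 1 := by
    intro C hC
    rw [hmapdet]
    apply det_one hK
    intro h0
    have h4 : C.det = 0 := by
      rw [← map_zero e] at h0
      exact e.injective h0
    rw [Matrix.det_eq_sign_charpoly_coeff, hC] at h4
    exact mul_ne_zero (pow_ne_zero _ (neg_ne_zero.2 one_ne_zero)) hf1 h4
  refine ⟨⟨X'.map e, hdet _ h2⟩, ⟨Y'.map e, hdet _ h3⟩, ?_, ?_, ?_⟩
  · apply Subtype.ext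
    rw [← hBA, h1]
    exact Matrix.map_mul
  · change (X'.map (e : ZMod 2 →+* K)).charpoly = _
    rw [Matrix.charpoly_map, h2]
  · change (Y'.map (e : ZMod 2 →+* K)).charpoly = _
    rw [Matrix.charpoly_map, h3]

/-- the final form -/
theorem cert_aux (hK : Nat.card K = 2) {n : ℕ} {f : (ZMod 2)[X]} (hf : Irreducible f) (hf1 : f.coeff 0 ≠ 0)
    (hfd : f.natDegree = n) (hn : 0 < n) (hn2 : ∃ A : Matrix.SpecialLinearGroup (Fin n) K, A ≠ 1)
    (hprod : ∀ A : Matrix (Fin n) (Fin n) (ZMod 2), A.det ≠ 0 → A ≠ 1 →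
      ∃ X Y : Matrix (Fin n) (Fin n) (ZMod 2), A = X * Y ∧ X.charpoly = f ∧ Y.charpoly = f)
    (e : ZMod 2 ≃+* K) :
    ∃ c : Matrix.SpecialLinearGroup (Fin n) K, (c : Matrix (Fin n) (Fin n) K).charpoly = f.map (e : ZMod 2 →+* K) ∧
      (∀ X : Matrix.SpecialLinearGroup (Fin n) K, (X : Matrix (Fin n) (Fin n) K).charpoly = f.map (e : ZMod 2 →+* K) →
        ∃ g : Matrix.SpecialLinearGroup (Fin n) K, X = g * c * g⁻¹) ∧
      ∀ A : Matrix.SpecialLinearGroup (Fin n) K, A ≠ 1 →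
        ∃ g h : Matrix.SpecialLinearGroup (Fin n) K, A = (g * c * g⁻¹) * (h * c * h⁻¹) := by
  haveI : Finite K := Nat.finite_of_card_ne_zero (by rw [hK]; norm_num)
  obtain ⟨A₀, hA₀⟩ := hn2
  obtain ⟨c, -, -, hc, -⟩ := transfer hK hf hf1 hfd hn hprod e A₀ hA₀
  have hcl : ∀ X : Matrix.SpecialLinearGroup (Fin n) K, (X : Matrix (Fin n) (Fin n) K).charpoly =
      f.map (e : ZMod 2 →+* K) → H150.MF.Cls (X : Matrix (Fin n) (Fin n) K) := fun X hX =>
    H150.MF.cls_of_irreducible (by rw [hX]; exact irr_map hf e)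
  have hconj : ∀ X : Matrix.SpecialLinearGroup (Fin n) K, (X : Matrix (Fin n) (Fin n) K).charpoly =
      f.map (e : ZMod 2 →+* K) → ∃ g : Matrix.SpecialLinearGroup (Fin n) K, X = g * c * g⁻¹ := fun X hX =>
    H150.MF.exists_conj (hcl c hc) (hcl X hX) (by rw [hX, hc])
  refine ⟨c, hc, hconj, fun A hA => ?_⟩
  obtain ⟨X, Y, h1, h2, h3⟩ := transfer hK hf hf1 hfd hn hprod e A hA
  obtain ⟨g, hg⟩ := hconj X h2
  obtain ⟨h, hh⟩ := hconj Y h3
  exact ⟨g, h, by rw [h1, hg, hh]⟩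

/-- eigenvalues over an extension -/
theorem eig_aux (hK : Nat.card K = 2) {n N : ℕ} {f : K[X]} (hf : Irreducible f) (hfm : f.Monic) (hfd : f.natDegree = n)
    (hN : 0 < N) (h1 : f ∣ X ^ N - 1) (h2 : ∀ p : ℕ, p.Prime → p ∣ N → IsCoprime f (X ^ (N / p) - 1)) :
    ∃ (L : Type u) (_ : Field L) (_ : Finite L) (i : K →+* L) (z : L), orderOf z = N ∧ f.eval₂ i z = 0 ∧
      ∀ A : Matrix (Fin n) (Fin n) K, A.charpoly = f →
        ∃ g : GL (Fin n) L, A.map i = (g : Matrix (Fin n) (Fin n) L) *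
          Matrix.diagonal (fun a : Fin n => z ^ (2 ^ (a : ℕ))) * ((g⁻¹ : GL (Fin n) L) : Matrix _ _ L) := by
  haveI : Finite K := Nat.finite_of_card_ne_zero (by rw [hK]; norm_num)
  haveI : Fintype K := Fintype.ofFinite K
  haveI : Fact (Irreducible f) := ⟨hf⟩
  haveI : Module.Finite K (AdjoinRoot f) := (AdjoinRoot.powerBasis hf.ne_zero).finite
  haveI : Finite (AdjoinRoot f) := Module.finite_of_finite K
  have hmin : minpoly K (AdjoinRoot.root f) = f := H953.minpoly_root_of_monic hfm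
  have key : ∀ k : ℕ, f ∣ X ^ k - 1 ↔ (AdjoinRoot.root f) ^ k = 1 := by
    intro k
    rw [← AdjoinRoot.mk_eq_zero, map_sub, map_pow, AdjoinRoot.mk_X, map_one, sub_eq_zero]
  refine ⟨AdjoinRoot f, inferInstance, inferInstance, algebraMap K (AdjoinRoot f), AdjoinRoot.root f, ?_, ?_, ?_⟩
  · refine orderOf_eq_of_pow_and_pow_div_prime hN ((key N).1 h1) fun p hp hpN h3 => ?_
    exact hf.not_isUnit ((h2 p hp hpN).isUnit_of_dvd' dvd_rfl ((key _).2 h3))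
  · exact AdjoinRoot.eval₂_root f
  · intro A hA
    obtain ⟨g, hg⟩ := diag_irr (K := K) (L := AdjoinRoot f) (z := AdjoinRoot.root f) (n := n)
      (by rw [hmin, hfd]) A (by rw [hmin, hA])
    rw [← Nat.card_eq_fintype_card, hK] at hg
    exact ⟨g, hg⟩

theorem f7_monic : (f7 K).Monic := by
  obtain h : (f7 K) = X ^ 7 + (X + 1) := by rw [f7]; ring
  rw [h]
  exact monic_X_pow_add (by compute_degree!)

theorem f7_deg : (f7 K).natDegree = 7 := by
  rw [f7]; compute_degree!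

theorem f8_monic : (f8 K).Monic := by
  obtain h : (f8 K) = X ^ 8 + (X ^ 4 + X ^ 3 + X ^ 2 + 1) := by rw [f8]; ring
  rw [h]
  exact monic_X_pow_add (by compute_degree!)

theorem f8_deg : (f8 K).natDegree = 8 := by
  rw [f8]; compute_degree!

theorem irr7 (hK : Nat.card K = 2) : Irreducible (f7 K) := by
  obtain ⟨e⟩ := exists_equiv hK
  have h := irr_map irrSeven e
  rwa [mono7, f7_map] at h

theorem irr8 (hK : Nat.card K = 2) : Irreducible (f8 K) := by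
  obtain ⟨e⟩ := exists_equiv hK
  have h := irr_map irrEight e
  rwa [mono8, f8_map] at h

theorem exists_ne (n : ℕ) : ∃ A : Matrix.SpecialLinearGroup (Fin (n + 2)) K, A ≠ 1 := by
  refine ⟨⟨Matrix.transvection 0 1 1, Matrix.det_transvection_of_ne 0 1 (by simp [Fin.ext_iff]) 1⟩, fun h => ?_⟩
  have h1 := congrFun (congrFun (congrArg Subtype.val h) 0) 1
  simp [Matrix.transvection, Matrix.one_apply, Matrix.single] at h1

/-- **`SL_7(2)`.** -/
theorem cert7 (hK : Nat.card K = 2) :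
    ∃ c : Matrix.SpecialLinearGroup (Fin 7) K, (c : Matrix (Fin 7) (Fin 7) K).charpoly = f7 K ∧
      (∀ X : Matrix.SpecialLinearGroup (Fin 7) K, (X : Matrix (Fin 7) (Fin 7) K).charpoly = f7 K →
        ∃ g : Matrix.SpecialLinearGroup (Fin 7) K, X = g * c * g⁻¹) ∧
      ∀ A : Matrix.SpecialLinearGroup (Fin 7) K, A ≠ 1 →
        ∃ g h : Matrix.SpecialLinearGroup (Fin 7) K, A = (g * c * g⁻¹) * (h * c * h⁻¹) := by
  obtain ⟨e⟩ := exists_equiv hK
  have h := cert_aux hK (n := 7) irrSeven (by rw [mono7, f7]; simp) (by rw [mono7, f7_deg]) (by norm_num)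
    (exists_ne 5) prodSeven e
  rwa [mono7, f7_map] at h

/-- **`SL_8(2)`.** -/
theorem cert8 (hK : Nat.card K = 2) :
    ∃ c : Matrix.SpecialLinearGroup (Fin 8) K, (c : Matrix (Fin 8) (Fin 8) K).charpoly = f8 K ∧
      (∀ X : Matrix.SpecialLinearGroup (Fin 8) K, (X : Matrix (Fin 8) (Fin 8) K).charpoly = f8 K →
        ∃ g : Matrix.SpecialLinearGroup (Fin 8) K, X = g * c * g⁻¹) ∧
      ∀ A : Matrix.SpecialLinearGroup (Fin 8) K, A ≠ 1 →
        ∃ g h : Matrix.SpecialLinearGroup (Fin 8) K, A = (g * c * g⁻¹) * (h * c * h⁻¹) := by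
  obtain ⟨e⟩ := exists_equiv hK
  have h := cert_aux hK (n := 8) irrEight (by rw [mono8, f8]; simp) (by rw [mono8, f8_deg]) (by norm_num)
    (exists_ne 6) prodEight e
  rwa [mono8, f8_map] at h

/-- eigenvalues of order 127 -/
theorem eig7 (hK : Nat.card K = 2) :
    ∃ (L : Type u) (_ : Field L) (_ : Finite L) (i : K →+* L) (z : L), orderOf z = 127 ∧ (f7 K).eval₂ i z = 0 ∧
      ∀ A : Matrix (Fin 7) (Fin 7) K, A.charpoly = f7 K →
        ∃ g : GL (Fin 7) L, A.map i = (g : Matrix (Fin 7) (Fin 7) L) *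
          Matrix.diagonal (fun a : Fin 7 => z ^ (2 ^ (a : ℕ))) * ((g⁻¹ : GL (Fin 7) L) : Matrix _ _ L) := by
  obtain ⟨e⟩ := exists_equiv hK
  refine eig_aux hK (irr7 hK) f7_monic f7_deg (by norm_num) ?_ ?_
  · have h : eqL (R := ZMod 2) (mulL (zl lSeven ++ [1]) [1, 1, 1, 1, 1, 1, 1, 0, 1, 0, 1, 0, 1, 0, 0, 1, 1, 0, 0, 1, 1, 1, 0, 1, 1, 1, 0, 1, 0, 0, 1, 0, 1, 1, 0, 0, 0, 1, 1, 0, 1, 1, 1, 1, 0, 1, 1, 0, 1, 0, 1, 1, 0, 1, 1, 0, 0, 1, 0, 0, 1, 0, 0, 0, 1, 1, 1, 0, 0, 0, 0, 1, 0, 1, 1, 1, 1, 1, 0, 0, 1, 0, 1, 0, 1, 1, 1, 0, 0, 1, 1, 0, 1, 0, 0, 0, 1, 0, 0, 1, 1, 1, 1, 0, 0, 0, 1, 0, 1, 0, 0, 0, 0, 1, 1, 0, 0, 0, 0, 0, 1]) (xk 127) = true := by decide +kernel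
    have h1 := Polynomial.map_dvd (e : ZMod 2 →+* K) (dvd_of_check h)
    rw [mono7, f7_map] at h1
    simpa using h1
  · intro p hp hpN
    have hp1 : p = 127 := (Nat.prime_dvd_prime_iff_eq hp (by norm_num)).1 hpN
    subst hp1
    have h : copCheck (R := ZMod 2) (zl lSeven) [1] [0, 1, 1, 1, 1, 1, 1] 1 = true := by decide +kernel
    have h1 := (cop_of_check h).map (Polynomial.mapRingHom (e : ZMod 2 →+* K))
    rw [mono7, coe_mapRingHom, f7_map] at h1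
    simpa using h1

/-- eigenvalues of order 255 -/
theorem eig8 (hK : Nat.card K = 2) :
    ∃ (L : Type u) (_ : Field L) (_ : Finite L) (i : K →+* L) (z : L), orderOf z = 255 ∧ (f8 K).eval₂ i z = 0 ∧
      ∀ A : Matrix (Fin 8) (Fin 8) K, A.charpoly = f8 K →
        ∃ g : GL (Fin 8) L, A.map i = (g : Matrix (Fin 8) (Fin 8) L) *
          Matrix.diagonal (fun a : Fin 8 => z ^ (2 ^ (a : ℕ))) * ((g⁻¹ : GL (Fin 8) L) : Matrix _ _ L) := by
  obtain ⟨e⟩ := exists_equiv hK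
  refine eig_aux hK (irr8 hK) f8_monic f8_deg (by norm_num) ?_ ?_
  · have h : eqL (R := ZMod 2) (mulL (zl lEight ++ [1]) [1, 0, 1, 1, 0, 0, 0, 1, 1, 1, 1, 0, 1, 0, 0, 0, 0, 1, 1, 1, 1, 1, 1, 1, 1, 0, 0, 1, 0, 0, 0, 0, 1, 0, 1, 0, 0, 1, 1, 1, 1, 1, 0, 1, 0, 1, 0, 1, 0, 1, 1, 1, 0, 0, 0, 0, 0, 1, 1, 0, 0, 0, 1, 0, 1, 0, 1, 1, 0, 0, 1, 1, 0, 0, 1, 0, 1, 1, 1, 1, 1, 1, 0, 1, 1, 1, 1, 0, 0, 1, 1, 0, 1, 1, 1, 0, 1, 1, 1, 0, 0, 1, 0, 1, 0, 1, 0, 0, 1, 0, 1, 0, 0, 0, 1, 0, 0, 1, 0, 1, 1, 0, 1, 0, 0, 0, 1, 1, 0, 0, 1, 1, 1, 0, 0, 1, 1, 1, 1, 0, 0, 0, 1, 1, 0, 1, 1, 0, 0, 0, 0, 1, 0, 0, 0, 1, 0, 1, 1, 1, 0, 1, 0, 1, 1, 1, 1, 0, 1, 1, 0, 1, 1, 1, 1, 1, 0, 0, 0, 0, 1, 1, 0, 1, 0, 0, 1, 1, 0, 1, 0, 1, 1, 0, 1, 1, 0, 1, 0, 1, 0, 0, 0, 0, 0, 1, 0, 0, 1, 1, 1, 0, 1, 1, 0, 0, 1, 0, 0, 1, 0, 0, 1, 1, 0, 0, 0, 0, 0, 0, 1, 1, 1, 0, 1, 0, 0, 1, 0, 0, 0, 1, 1, 1, 0, 0, 0, 1]) (xk 255) = true := by decide +kernel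
    have h1 := Polynomial.map_dvd (e : ZMod 2 →+* K) (dvd_of_check h)
    rw [mono8, f8_map] at h1
    simpa using h1
  · intro p hp hpN
    have hp1 : p = 3 ∨ p = 5 ∨ p = 17 := by
      have h0 : p ∣ 3 * 5 * 17 := by simpa using hpN
      rcases (hp.dvd_mul).1 h0 with h0 | h0
      · rcases (hp.dvd_mul).1 h0 with h0 | h0
        · exact Or.inl ((Nat.prime_dvd_prime_iff_eq hp (by norm_num)).1 h0)
        · exact Or.inr (Or.inl ((Nat.prime_dvd_prime_iff_eq hp (by norm_num)).1 h0))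
      · exact Or.inr (Or.inr ((Nat.prime_dvd_prime_iff_eq hp (by norm_num)).1 h0))
    have c15 : copCheck (R := ZMod 2) (zl lEight) [1, 1, 1, 1, 1, 1, 1, 0, 0, 1, 0, 0, 0, 0, 1] [0, 1, 0, 1, 0, 0, 0, 1] 15 = true := by decide +kernel
    have c51 : copCheck (R := ZMod 2) (zl lEight) [1, 0, 1, 0, 1, 1, 0, 1, 1, 0, 1, 0, 1, 0, 0, 0, 0, 0, 1, 0, 0, 1, 1, 1, 0, 1, 1, 0, 0, 1, 0, 0, 1, 0, 0, 1, 1, 0, 0, 0, 0, 0, 0, 1, 1, 1, 0, 1, 0, 0, 1] [0, 0, 0, 1, 1, 0, 0, 1] 51 = true := by decide +kernel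
    have c85 : copCheck (R := ZMod 2) (zl lEight) [1, 1, 0, 0, 1, 1, 0, 1, 1, 1, 0, 1, 1, 1, 0, 0, 1, 0, 1, 0, 1, 0, 0, 1, 0, 1, 0, 0, 0, 1, 0, 0, 1, 0, 1, 1, 0, 1, 0, 0, 0, 1, 1, 0, 0, 1, 1, 1, 0, 0, 1, 1, 1, 1, 0, 0, 0, 1, 1, 0, 1, 1, 0, 0, 0, 0, 1, 0, 0, 0, 1, 0, 1, 1, 1, 0, 1, 0, 1, 1, 1, 1, 0, 1, 1] [0, 1, 1, 0, 1, 0, 1, 1] 85 = true := by decide +kernel
    have hh : ∀ k, IsCoprime (mono (zl lEight)) (X ^ k - 1) → IsCoprime (f8 K) (X ^ k - 1) := by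
      intro k h
      have h1 := h.map (Polynomial.mapRingHom (e : ZMod 2 →+* K))
      rw [mono8, coe_mapRingHom, f8_map] at h1
      simpa using h1
    rcases hp1 with rfl | rfl | rfl
    · exact hh 85 (cop_of_check c85)
    · exact hh 51 (cop_of_check c51)
    · exact hh 15 (cop_of_check c15)

end

end Cfsg.Agent.H934.MF
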