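import Mathlib

/-!
# Polynomial lemmas

* `charpoly_of_vec` : a matrix has the irreducible characteristic polynomial `f` as soon as `v f(X) = 0` for one
  nonzero row vector `v`;
* `irr_of_pow` : irreducibility from the multiplicative order of the root;
* `toP` : polynomials from lists of coefficients.
-/

set_option autoImplicit false

namespace Cfsg.Agent.H934.MF

open Matrix Polynomial

theorem charpoly_of_vec {F : Type*} [Field F] {n : ℕ} {A : Matrix (Fin n) (Fin n) F} {f : F[X]}
    (hf : Irreducible f) (hm : f.Monic) (hd : f.natDegree = n) {v : Fin n → F} (hv : v ≠ 0)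
    (h : v ᵥ* (aeval A f) = 0) : A.charpoly = f := by
  have h1 : f ∣ A.charpoly := by
    by_contra hcon
    obtain ⟨a, b, hab⟩ := (hf.coprime_iff_not_dvd).2 hcon
    apply hv
    have h2 : aeval A f * aeval A a = 1 := by
      have h3 := congrArg (aeval A) hab
      rw [map_add, map_mul, map_mul, Matrix.aeval_self_charpoly, mul_zero, add_zero, map_one] at h3
      rw [← h3, ← map_mul, ← map_mul, mul_comm]
    have h4 := congrArg (fun w => w ᵥ* (aeval A a)) h
    simp only [Matrix.vecMul_vecMul, h2, Matrix.vecMul_one, Matrix.zero_vecMul] at h4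
    exact h4
  refine Polynomial.eq_of_monic_of_dvd_of_natDegree_le hm (Matrix.charpoly_monic A) h1 ?_
  rw [Matrix.charpoly_natDegree_eq_dim, Fintype.card_fin, hd]

theorem irr_of_pow {F : Type*} [Field F] [Fintype F] {f : F[X]} (hm : f.Monic) {n N e : ℕ} (hd : f.natDegree = n)
    (hn : 0 < n) (hN : 0 < N) (h1 : f ∣ X ^ N - 1) (h2 : IsCoprime f (X ^ e - 1))
    (h3 : ∀ m, 1 ≤ m → m ≤ n / 2 → Nat.gcd N (Fintype.card F ^ m - 1) ∣ e) : Irreducible f := by
  classical
  by_contra hirr
  have hne : f ≠ 1 := by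
    rintro rfl
    rw [natDegree_one] at hd
    omega
  obtain ⟨g, hg0, hgn, hgf⟩ : ∃ g : F[X], 0 < g.natDegree ∧ g.natDegree ≤ n / 2 ∧ g ∣ f := by
    rw [hm.irreducible_iff_natDegree'] at hirr
    push Not at hirr
    obtain ⟨u, g, -, -, hug, hg⟩ := hirr hne
    rw [Finset.mem_Ioc, hd] at hg
    exact ⟨g, hg.1, hg.2, ⟨u, by rw [mul_comm, hug]⟩⟩
  have hf0 : f ≠ 0 := hm.ne_zero
  have hg0' : g ≠ 0 := by
    rintro rfl
    rw [natDegree_zero] at hg0
    exact lt_irrefl _ hg0
  have hgu : ¬ IsUnit g := fun h => by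
    have := natDegree_eq_zero_of_isUnit h
    omega
  obtain ⟨p, hp, hpg⟩ := WfDvdMonoid.exists_irreducible_factor hgu hg0'
  have hpd : p.natDegree ≤ n / 2 := (natDegree_le_of_dvd hpg hg0').trans hgn
  have hp1 : 1 ≤ p.natDegree := hp.natDegree_pos
  have hpf : p ∣ f := hpg.trans hgf
  haveI : Fact (Irreducible p) := ⟨hp⟩
  haveI : Module.Finite F (AdjoinRoot p) := (AdjoinRoot.powerBasis hp.ne_zero).finite
  haveI : Finite (AdjoinRoot p) := Module.finite_of_finite F
  haveI : Fintype (AdjoinRoot p) := Fintype.ofFinite _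
  have hcard : Fintype.card (AdjoinRoot p) = Fintype.card F ^ p.natDegree := by
    rw [Module.card_eq_pow_finrank (K := F) (V := AdjoinRoot p),
      (AdjoinRoot.powerBasis hp.ne_zero).finrank, AdjoinRoot.powerBasis_dim]
  have key : ∀ k : ℕ, p ∣ X ^ k - 1 ↔ (AdjoinRoot.root p) ^ k = 1 := by
    intro k
    rw [← AdjoinRoot.mk_eq_zero, map_sub, map_pow, AdjoinRoot.mk_X, map_one, sub_eq_zero]
  have hN1 : (AdjoinRoot.root p) ^ N = 1 := (key N).1 (hpf.trans h1)
  have hr0 : AdjoinRoot.root p ≠ 0 := by
    intro h0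
    rw [h0, zero_pow hN.ne'] at hN1
    exact zero_ne_one hN1
  have h4 := FiniteField.pow_card_sub_one_eq_one _ hr0
  rw [hcard] at h4
  have h5 : (AdjoinRoot.root p) ^ e = 1 :=
    orderOf_dvd_iff_pow_eq_one.1 ((Nat.dvd_gcd (orderOf_dvd_of_pow_eq_one hN1)
      (orderOf_dvd_of_pow_eq_one h4)).trans (h3 _ hp1 hpd))
  exact hp.not_isUnit (h2.isUnit_of_dvd' hpf ((key e).2 h5))

section Lists

variable {R : Type*} [CommRing R]

/-- polynomial from the list of its coefficients -/
noncomputable def toP : List R → R[X]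
  | [] => 0
  | a :: l => C a + X * toP l

/-- sum of lists -/
def addL : List R → List R → List R
  | [], l => l
  | a :: l, [] => a :: l
  | a :: l, b :: m => (a + b) :: addL l m

/-- product of lists -/
def mulL : List R → List R → List R
  | [], _ => []
  | a :: l, m => addL (m.map (a * ·)) (0 :: mulL l m)

theorem toP_addL : ∀ l m : List R, toP (addL l m) = toP l + toP m
  | [], m => by rw [addL, toP, zero_add]
  | a :: l, [] => by rw [addL, toP, toP, add_zero]
  | a :: l, b :: m => by rw [addL, toP, toP_addL l m, toP, toP, C_add]; ring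

theorem toP_map (a : R) : ∀ m : List R, toP (m.map (a * ·)) = C a * toP m
  | [] => by rw [List.map_nil, toP, mul_zero]
  | b :: m => by rw [List.map_cons, toP, toP_map a m, toP, C_mul]; ring

theorem toP_mulL : ∀ l m : List R, toP (mulL l m) = toP l * toP m
  | [], m => by rw [mulL, toP, zero_mul]
  | a :: l, m => by
    rw [mulL, toP_addL, toP_map, toP, toP_mulL l m, toP, C_0]; ring

theorem coeff_toP : ∀ (l : List R) (k : ℕ), (toP l).coeff k = l.getD k 0
  | [], k => by rw [toP, coeff_zero, List.getD_nil]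
  | a :: l, 0 => by rw [toP, coeff_add, coeff_C_zero, coeff_X_mul_zero, add_zero, List.getD_cons_zero]
  | a :: l, k + 1 => by
    rw [toP, coeff_add, coeff_C_succ, coeff_X_mul, zero_add, coeff_toP l k, List.getD_cons_succ]

/-- `X ^ k * p` -/
theorem toP_replicate (k : ℕ) (l : List R) : toP (List.replicate k 0 ++ l) = X ^ k * toP l := by
  induction k with
  | zero => simp
  | succ k ih => rw [List.replicate_succ, List.cons_append, toP, ih, C_0]; ring

/-- the list of `X ^ k - 1` -/
def xk (k : ℕ) : List R := addL [-1] (List.replicate k 0 ++ [1])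

theorem toP_xk (k : ℕ) : toP (xk k : List R) = X ^ k - 1 := by
  rw [xk, toP_addL, toP_replicate, toP, toP, toP, toP, C_neg, C_1]
  ring

/-- equality up to trailing zeros -/
theorem toP_congr {l m : List R} (h : ∀ k, l.getD k 0 = m.getD k 0) : toP l = toP m := by
  ext k
  rw [coeff_toP, coeff_toP, h]

theorem toP_zero {l : List R} (h : ∀ x ∈ l, x = 0) : toP l = 0 := by
  induction l with
  | nil => rfl
  | cons a l ih =>
    rw [toP, h a (List.mem_cons_self), C_0, zero_add, ih fun x hx => h x (List.mem_cons_of_mem _ hx), mul_zero]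

/-- equality of polynomials -/
def eqL [DecidableEq R] (l m : List R) : Bool := (addL l (m.map ((-1) * ·))).all fun x => decide (x = 0)

theorem toP_eq [DecidableEq R] {l m : List R} (h : eqL l m = true) : toP l = toP m := by
  have h1 : ∀ x ∈ addL l (m.map ((-1) * ·)), x = 0 := by
    intro x hx
    have := List.all_eq_true.1 h x hx
    exact of_decide_eq_true this
  have h2 := toP_zero h1
  rw [toP_addL, toP_map, C_neg, C_1] at h2
  linear_combination h2

/-- the monic polynomial with lower coefficients `l` -/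
noncomputable def mono (l : List R) : R[X] := toP (l ++ [1])

theorem toP_append (l m : List R) : toP (l ++ m) = toP l + X ^ l.length * toP m := by
  induction l with
  | nil => simp [toP]
  | cons a l ih => rw [List.cons_append, toP, ih, toP, List.length_cons]; ring

theorem mono_eq (l : List R) : mono l = X ^ l.length + toP l := by
  rw [mono, toP_append, toP, toP, C_1]
  ring

theorem degree_toP_lt (l : List R) : (toP l).degree < l.length := by
  rw [Polynomial.degree_lt_iff_coeff_zero]
  intro k hk
  rw [coeff_toP, List.getD_eq_default _ _ hk]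

theorem mono_monic (l : List R) : (mono l).Monic := by
  rw [mono_eq]
  exact monic_X_pow_add (degree_toP_lt l)

theorem mono_natDegree [Nontrivial R] (l : List R) : (mono l).natDegree = l.length := by
  rw [mono_eq, Polynomial.natDegree_add_eq_left_of_degree_lt (by rw [degree_X_pow]; exact degree_toP_lt l),
    natDegree_X_pow]

/-- kernel check of irreducibility -/
def irrCheck [DecidableEq R] (q : ℕ) (l h a b : List R) (N e : ℕ) : Bool :=
  decide (0 < l.length ∧ 0 < N) && eqL (mulL (l ++ [1]) h) (xk N) &&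
    eqL (addL (mulL a (l ++ [1])) (mulL b (xk e))) [1] &&
    (List.range (l.length / 2)).all fun m => decide (Nat.gcd N (q ^ (m + 1) - 1) ∣ e)

end Lists

theorem irr_of_check {F : Type*} [Field F] [Fintype F] [DecidableEq F] {q : ℕ} (hq : Fintype.card F = q)
    {l h a b : List F} {N e : ℕ} (hc : irrCheck q l h a b N e = true) : Irreducible (mono l) := by
  rw [irrCheck, Bool.and_eq_true, Bool.and_eq_true, Bool.and_eq_true, decide_eq_true_iff] at hc
  obtain ⟨⟨⟨⟨hl, hN⟩, h1⟩, h2⟩, h3⟩ := hc
  have h1' := toP_eq h1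
  have h2' := toP_eq h2
  rw [toP_mulL, toP_xk] at h1'
  rw [toP_addL, toP_mulL, toP_mulL, toP_xk] at h2'
  have e1 : toP ([1] : List F) = 1 := by rw [toP, toP, C_1]; ring
  rw [e1] at h2'
  refine irr_of_pow (mono_monic l) (mono_natDegree l) hl hN ⟨_, h1'.symm⟩ ⟨_, _, h2'⟩ ?_
  intro m hm1 hm2
  have h4 := List.all_eq_true.1 h3 (m - 1) (List.mem_range.2 (by omega))
  rw [decide_eq_true_iff] at h4
  rw [hq]
  have : m - 1 + 1 = m := by omega
  rwa [this] at h4

end Cfsg.Agent.H934.MF
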