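import Mathlib
import Cfsg.Agent.H953.Rcf

/-!
# Block companion matrices

`exists_blk` : every square matrix over a field is similar to a block companion matrix `blk b c`
(`b` marks the last columns of the blocks, `c` contains the entries of these columns).
-/

set_option autoImplicit false

namespace Cfsg.Agent.H934.MF

open Matrix Polynomial Cfsg.Agent.H953

universe u

variable {F : Type u} [Field F]

/-- block companion matrix -/
def blk {n : ℕ} (b : Fin n → Bool) (c : Fin n → F) : Matrix (Fin n) (Fin n) F :=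
  Matrix.of fun i j => if b j = true then (if i ≤ j ∧ ∀ k, i ≤ k → k < j → b k = false then c i else 0)
    else if (i : ℕ) = j + 1 then 1 else 0

/-- positions in a composition -/
theorem exists_pos {d n : ℕ} (m : Fin d → ℕ) (hsum : ∑ i, m i = n) :
    ∃ (e : (Σ i : Fin d, Fin (m i)) ≃ Fin n) (S : Fin d → ℕ), (∀ i k, (e ⟨i, k⟩ : ℕ) = S i + k) ∧
      ∀ i j, i < j → S i + m i ≤ S j := by
  refine ⟨finSigmaFinEquiv.trans (finCongr hsum), fun i => ∑ l : Fin i, m (Fin.castLE i.2.le l), ?_, ?_⟩
  · intro i k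
    simp [finSigmaFinEquiv_apply]
  · intro i j hij
    have h1 : ∀ t : Fin d, ∑ l : Fin (t : ℕ), m (Fin.castLE t.2.le l) =
        ∑ l ∈ Finset.univ.filter (fun l : Fin d => l < t), m l := by
      intro t
      refine Finset.sum_bij (fun l _ => Fin.castLE t.2.le l) ?_ ?_ ?_ ?_
      · intro l _
        simp only [Finset.mem_filter, Finset.mem_univ, true_and]
        exact Fin.lt_def.2 l.2
      · intro a _ b _ h
        exact Fin.ext (by simpa using congrArg Fin.val h)
      · intro l hl
        simp only [Finset.mem_filter, Finset.mem_univ, true_and] at hl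
        exact ⟨⟨l, Fin.lt_def.1 hl⟩, Finset.mem_univ _, rfl⟩
      · intro l _; rfl
    simp only []
    rw [h1, h1, add_comm, ← Finset.sum_insert (a := i) (f := m) (by simp)]
    refine Finset.sum_le_sum_of_subset ?_
    intro l hl
    simp only [Finset.mem_insert, Finset.mem_filter, Finset.mem_univ, true_and] at hl ⊢
    rcases hl with rfl | hl
    · exact hij
    · exact hl.trans hij

theorem reindex_blk {d n : ℕ} (hn : 0 < n) (m : Fin d → ℕ) (hsum : ∑ i, m i = n) (κ : ∀ i, Fin (m i) → F)
    (K : ∀ i, Matrix (Fin (m i)) (Fin (m i)) F)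
    (hK : ∀ i j k, K i j k = if (k : ℕ) + 1 = m i then κ i j else if (j : ℕ) = k + 1 then 1 else 0) :
    ∃ (e : (Σ i : Fin d, Fin (m i)) ≃ Fin n) (b : Fin n → Bool) (c : Fin n → F),
      b ⟨n - 1, by omega⟩ = true ∧ Matrix.reindex e e (Matrix.blockDiagonal' K) = blk b c := by
  classical
  obtain ⟨e, S, he, hS⟩ := exists_pos m hsum
  obtain ⟨bs, hbs⟩ : ∃ bs : (Σ i : Fin d, Fin (m i)) → Bool, ∀ i k, bs ⟨i, k⟩ = decide ((k : ℕ) + 1 = m i) :=
    ⟨fun x => decide ((x.2 : ℕ) + 1 = m x.1), fun _ _ => rfl⟩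
  obtain ⟨ks, hks⟩ : ∃ ks : (Σ i : Fin d, Fin (m i)) → F, ∀ i k, ks ⟨i, k⟩ = κ i k :=
    ⟨fun x => κ x.1 x.2, fun _ _ => rfl⟩
  refine ⟨e, fun s => bs (e.symm s), fun s => ks (e.symm s), ?_, ?_⟩
  · obtain ⟨⟨i, k⟩, hik⟩ := e.surjective ⟨n - 1, by omega⟩
    simp only [← hik, Equiv.symm_apply_apply]
    rw [hbs, decide_eq_true_iff]
    by_contra hne
    have h1 : (k : ℕ) + 1 < m i := by have := k.2; omega
    have h2 := he i ⟨k + 1, h1⟩
    have h3 := he i k
    rw [hik] at h3
    simp only at h2 h3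
    have h4 := (e ⟨i, ⟨k + 1, h1⟩⟩).2
    omega
  · ext r s
    obtain ⟨⟨i', k'⟩, rfl⟩ := e.surjective r
    obtain ⟨⟨i, k⟩, rfl⟩ := e.surjective s
    rw [Matrix.reindex_apply, Matrix.submatrix_apply, Equiv.symm_apply_apply, Equiv.symm_apply_apply, blk,
      Matrix.of_apply]
    simp only [Equiv.symm_apply_apply]
    rw [hks]
    have hb0 : bs ⟨i, k⟩ = true ↔ (k : ℕ) + 1 = m i := by rw [hbs, decide_eq_true_iff]
    have hr := he i' k'
    have hs := he i k
    by_cases hlast : (k : ℕ) + 1 = m i
    · rw [if_pos (hb0.2 hlast)]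
      rcases lt_trichotomy i' i with hii | hii | hii
      · rw [Matrix.blockDiagonal'_apply_ne _ _ _ hii.ne, if_neg]
        rintro ⟨-, h2⟩
        have h3 : m i' - 1 < m i' := by have := k'.2; omega
        have h4 := he i' ⟨m i' - 1, h3⟩
        have h5 := hS i' i hii
        have h6 := k'.2
        have h7 := h2 (e ⟨i', ⟨m i' - 1, h3⟩⟩) (Fin.le_def.2 (by rw [h4, hr]; simp only; omega))
          (Fin.lt_def.2 (by rw [h4, hs]; simp only; omega))
        rw [Equiv.symm_apply_apply, hbs, decide_eq_false_iff_not] at h7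
        apply h7
        simp only
        omega
      · subst hii
        rw [Matrix.blockDiagonal'_apply_eq, hK, if_pos hlast, if_pos]
        refine ⟨Fin.le_def.2 (by rw [hr, hs]; have := k'.2; omega), ?_⟩
        intro x h1 h2
        obtain ⟨⟨i'', k''⟩, rfl⟩ := e.surjective x
        rw [Equiv.symm_apply_apply, hbs, decide_eq_false_iff_not]
        rw [Fin.le_def, hr, he] at h1
        rw [Fin.lt_def, hs, he] at h2
        have h3 := k''.2
        rcases lt_trichotomy i'' i' with h | h | h
        · have := hS _ _ h; omega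
        · subst h; omega
        · have := hS _ _ h; omega
      · rw [Matrix.blockDiagonal'_apply_ne _ _ _ hii.ne', if_neg]
        rintro ⟨h1, -⟩
        rw [Fin.le_def, hr, hs] at h1
        have h5 := hS i i' hii
        have := k.2
        omega
    · rw [if_neg (fun h => hlast (hb0.1 h))]
      have hk1 : (k : ℕ) + 1 < m i := by have := k.2; omega
      have h2 := he i ⟨k + 1, hk1⟩
      simp only at h2
      by_cases hii : i' = i
      · subst hii
        rw [Matrix.blockDiagonal'_apply_eq, hK, if_neg hlast, hr, hs]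
        by_cases h3 : (k' : ℕ) = k + 1
        · rw [if_pos h3, if_pos (by omega)]
        · rw [if_neg h3, if_neg (by omega)]
      · rw [Matrix.blockDiagonal'_apply_ne _ _ _ hii, if_neg]
        intro h3
        have h4 : e ⟨i', k'⟩ = e ⟨i, ⟨k + 1, hk1⟩⟩ := Fin.ext (by rw [h3, h2, hs]; omega)
        exact hii (congrArg Sigma.fst (e.injective h4))

/-- **Every matrix is similar to a block companion matrix.** -/
theorem exists_blk {n : ℕ} (hn : 0 < n) (A : Matrix (Fin n) (Fin n) F) :
    ∃ (b : Fin n → Bool) (c : Fin n → F) (P : Matrix (Fin n) (Fin n) F), b ⟨n - 1, by omega⟩ = true ∧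
      P.det ≠ 0 ∧ A * P = P * blk b c := by
  classical
  obtain ⟨d, g, e₀, P, -, -, hP⟩ := exists_rcf A
  have hsum : ∑ i, (g i).natDegree = n := by
    have h1 := Fintype.card_congr e₀
    rw [Fintype.card_sigma, Fintype.card_fin] at h1
    rw [← h1]
    exact Finset.sum_congr rfl fun i _ => (Fintype.card_fin _).symm
  obtain ⟨e, b, c, hb, hbc⟩ := reindex_blk hn (fun i => (g i).natDegree) hsum (fun i j => -(g i).coeff j)
    (fun i => H953.comp (g i)) (fun i j k => rfl)
  obtain ⟨K, hK⟩ : ∃ K, K = Matrix.blockDiagonal' fun i => H953.comp (g i) := ⟨_, rfl⟩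
  rw [← hK] at hP hbc
  refine ⟨b, c, (P : Matrix (Fin n) (Fin n) F).submatrix id (e.symm.trans e₀), hb, ?_, ?_⟩
  · rw [Matrix.det_permute']
    refine mul_ne_zero ?_ ((Matrix.isUnit_iff_isUnit_det _).1 P.isUnit).ne_zero
    rcases Int.units_eq_one_or (Equiv.Perm.sign (e.symm.trans e₀)) with h | h <;> rw [h] <;> simp
  · rw [← hbc]
    have h1 := congrArg (fun M : Matrix (Fin n) (Fin n) F => M.submatrix id (e.symm.trans e₀)) hP
    have h2 : (A * (P : Matrix (Fin n) (Fin n) F)).submatrix id (e.symm.trans e₀) =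
        A * (P : Matrix (Fin n) (Fin n) F).submatrix id (e.symm.trans e₀) := rfl
    have h3 : ((P : Matrix (Fin n) (Fin n) F) * Matrix.reindex e₀ e₀ K).submatrix id (e.symm.trans e₀) =
        (P : Matrix (Fin n) (Fin n) F).submatrix id (e.symm.trans e₀) * Matrix.reindex e e K := by
      rw [← Matrix.submatrix_mul_equiv _ _ id (e.symm.trans e₀) (e.symm.trans e₀)]
      congr 1
      ext i j
      simp
    rw [← h2, ← h3, hP]

end Cfsg.Agent.H934.MF
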