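import Cfsg.Agent.H934.MF.Blk
import Cfsg.Agent.H934.MF.Poly

/-!
# Products of two irreducible classes over the field with two elements: kernel check
-/

set_option autoImplicit false

namespace Cfsg.Agent.H934.MF

open Matrix Polynomial

/-- linear combination of rows -/
def vm : ℕ → List ℕ → ℕ
  | _, [] => 0
  | v, r :: rs => if v % 2 = 1 then r ^^^ vm (v / 2) rs else vm (v / 2) rs

/-- a bit as an element of the field with two elements -/
def bit (v j : ℕ) : ZMod 2 := if v.testBit j then 1 else 0

theorem bit_zero (j : ℕ) : bit 0 j = 0 := by rw [bit, Nat.zero_testBit]; rfl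

theorem bit_xor (a b j : ℕ) : bit (a ^^^ b) j = bit a j + bit b j := by
  rw [bit, bit, bit, Nat.testBit_xor]
  cases a.testBit j <;> cases b.testBit j <;> decide

theorem bit_div (v k : ℕ) : bit (v / 2) k = bit v (k + 1) := by
  rw [bit, bit, Nat.testBit_succ]

theorem bit_mod (v : ℕ) : bit v 0 = if v % 2 = 1 then 1 else 0 := by
  rw [bit, Nat.testBit_zero]
  by_cases h : v % 2 = 1 <;> simp [h]

theorem bit_vm (j : ℕ) : ∀ (R : List ℕ) (v : ℕ),
    bit (vm v R) j = ∑ k ∈ Finset.range R.length, bit v k * bit (R.getD k 0) j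
  | [], v => by simp [vm, bit_zero]
  | r :: rs, v => by
    rw [List.length_cons, Finset.sum_range_succ', List.getD_cons_zero, vm]
    have h1 := bit_vm j rs (v / 2)
    by_cases h : v % 2 = 1
    · rw [if_pos h, bit_xor, h1, bit_mod v, if_pos h, one_mul, add_comm]
      congr 1
      refine Finset.sum_congr rfl fun k _ => ?_
      rw [bit_div, List.getD_cons_succ]
    · rw [if_neg h, h1, bit_mod v, if_neg h, zero_mul, add_zero]
      refine Finset.sum_congr rfl fun k _ => ?_
      rw [bit_div, List.getD_cons_succ]

/-- row vector -/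
def row (n v : ℕ) : Fin n → ZMod 2 := fun j => bit v j

/-- matrix from rows -/
def mat (n : ℕ) (R : List ℕ) : Matrix (Fin n) (Fin n) (ZMod 2) := Matrix.of fun i j => bit (R.getD i 0) j

theorem row_vm {n : ℕ} {R : List ℕ} (hR : R.length = n) (v : ℕ) : row n (vm v R) = row n v ᵥ* mat n R := by
  ext j
  rw [row, bit_vm, hR, Matrix.vecMul, dotProduct, ← Fin.sum_univ_eq_sum_range (fun k => bit v k * bit (R.getD k 0) j)]
  rfl

/-- product of matrices -/
def mulR (A B : List ℕ) : List ℕ := A.map fun a => vm a B

theorem mat_mulR {n : ℕ} {A B : List ℕ} (hA : A.length = n) (hB : B.length = n) :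
    mat n (mulR A B) = mat n A * mat n B := by
  ext i j
  have h1 : (mulR A B).getD i 0 = vm (A.getD i 0) B := by
    rw [mulR, List.getD_eq_getElem _ _ (by rw [List.length_map, hA]; exact i.2), List.getElem_map,
      List.getD_eq_getElem _ _ (by rw [hA]; exact i.2)]
  rw [mat, Matrix.of_apply, h1]
  exact congrFun (row_vm hB (A.getD i 0)) j

/-- the check `v f(X) = acc` -/
def kr (R : List ℕ) : List Bool → ℕ → ℕ → Bool
  | [], v, acc => v == acc
  | b :: l, v, acc => kr R l (vm v R) (if b = true then acc ^^^ v else acc)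

/-- coefficients -/
def zl (l : List Bool) : List (ZMod 2) := l.map fun b => if b = true then 1 else 0

theorem kr_spec {n : ℕ} {R : List ℕ} (hR : R.length = n) : ∀ (l : List Bool) (v acc : ℕ), kr R l v acc = true →
    row n v ᵥ* (aeval (mat n R) (mono (zl l))) = row n acc
  | [], v, acc, h => by
    rw [kr, beq_iff_eq] at h
    have : mono (zl []) = 1 := by
      rw [zl, List.map_nil, mono, List.nil_append, toP, toP, mul_zero, add_zero, C_1]
    rw [this, map_one, Matrix.vecMul_one, h]
  | b :: l, v, acc, h => by
    have h1 := kr_spec hR l _ _ h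
    have h2 : mono (zl (b :: l)) = C (if b = true then (1 : ZMod 2) else 0) + X * mono (zl l) := rfl
    rw [h2, map_add, map_mul, aeval_X, aeval_C, Matrix.vecMul_add, ← Matrix.vecMul_vecMul, ← row_vm hR, h1]
    cases b
    · simp
    · simp only [if_true, map_one, Matrix.vecMul_one]
      ext j
      change bit v j + bit (acc ^^^ v) j = bit acc j
      rw [bit_xor]
      have : ∀ x y : ZMod 2, x + (y + x) = y := by decide
      exact this _ _

theorem charpoly_of_kr {n : ℕ} (hn : 0 < n) {R : List ℕ} (hR : R.length = n) {l : List Bool} (hl : l.length = n)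
    (hirr : Irreducible (mono (zl l))) (h : kr R l 1 0 = true) : (mat n R).charpoly = mono (zl l) := by
  refine charpoly_of_vec hirr (mono_monic _) (by rw [mono_natDegree, zl, List.length_map, hl]) (v := row n 1) ?_ ?_
  · intro h0
    have := congrFun h0 ⟨0, hn⟩
    rw [row, bit_mod] at this
    exact one_ne_zero this
  · rw [kr_spec hR l 1 0 h]
    ext j
    exact bit_zero _

/-- end of the block -/
def en (b : ℕ) : ℕ → ℕ → ℕ
  | 0, i => i
  | f + 1, i => if b.testBit i = true then i else en b f (i + 1)

theorem en_spec {b n : ℕ} (hb : b.testBit (n - 1) = true) : ∀ (f i : ℕ), i < n → n - 1 - i ≤ f →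
    i ≤ en b f i ∧ en b f i < n ∧ b.testBit (en b f i) = true ∧ ∀ k, i ≤ k → k < en b f i → b.testBit k = false
  | 0, i, hi, hf => by
    have : i = n - 1 := by omega
    rw [en, this]
    exact ⟨le_rfl, by omega, hb, fun k h1 h2 => by omega⟩
  | f + 1, i, hi, hf => by
    rw [en]
    by_cases h : b.testBit i = true
    · rw [if_pos h]
      exact ⟨le_rfl, hi, h, fun k h1 h2 => by omega⟩
    · rw [if_neg h]
      have hi' : i + 1 < n := by
        by_contra hc
        have : i = n - 1 := by omega
        rw [this] at h
        exact h hb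
      obtain ⟨h1, h2, h3, h4⟩ := en_spec hb f (i + 1) hi' (by omega)
      refine ⟨by omega, h2, h3, fun k h5 h6 => ?_⟩
      rcases Nat.eq_or_lt_of_le h5 with rfl | h5
      · simpa using h
      · exact h4 k h5 h6

/-- row of the block companion matrix -/
def bRow (n b c i : ℕ) : ℕ :=
  (if i = 0 ∨ b.testBit (i - 1) = true then 0 else 2 ^ (i - 1)) ^^^
    (if c.testBit i = true then 2 ^ (en b n i) else 0)

/-- rows of the block companion matrix -/
def rowsB (n b c : ℕ) : List ℕ := (List.range n).map (bRow n b c)

theorem mat_rowsB {n b c : ℕ} (hb : b.testBit (n - 1) = true) :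
    mat n (rowsB n b c) = blk (fun i : Fin n => b.testBit i) (fun i => bit c i) := by
  ext i j
  have h1 : (rowsB n b c).getD i 0 = bRow n b c i := by
    rw [rowsB, List.getD_eq_getElem _ _ (by rw [List.length_map, List.length_range]; exact i.2), List.getElem_map,
      List.getElem_range]
  obtain ⟨h2, h3, h4, h5⟩ := en_spec hb n i i.2 (by omega)
  rw [mat, Matrix.of_apply, h1, bRow, bit_xor, blk, Matrix.of_apply]
  have hpow : ∀ k : ℕ, bit (2 ^ k) j = if k = j then 1 else 0 := by
    intro k
    rw [bit, Nat.testBit_two_pow]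
    by_cases h : k = j <;> simp [h]
  have e2 : bit (if c.testBit i = true then 2 ^ (en b n i) else 0) j = bit c i * (if en b n i = j then 1 else 0) := by
    by_cases h : c.testBit i = true
    · rw [if_pos h, hpow, bit, if_pos h, one_mul]
    · rw [if_neg h, bit_zero, bit, if_neg h, zero_mul]
  have e1 : bit (if (i : ℕ) = 0 ∨ b.testBit (i - 1) = true then 0 else 2 ^ ((i : ℕ) - 1)) j =
      if (i : ℕ) = j + 1 ∧ b.testBit j = false then 1 else 0 := by
    by_cases h : (i : ℕ) = 0 ∨ b.testBit (i - 1) = true
    · rw [if_pos h, bit_zero, if_neg]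
      rintro ⟨h6, h7⟩
      rcases h with h | h
      · omega
      · have : (i : ℕ) - 1 = j := by omega
        rw [this, h7] at h
        exact Bool.false_ne_true h
    · rw [if_neg h, hpow]
      push Not at h
      by_cases h6 : (i : ℕ) - 1 = j
      · rw [if_pos h6, if_pos]
        refine ⟨by omega, ?_⟩
        have := h.2
        rw [h6] at this
        simpa using this
      · rw [if_neg h6, if_neg]
        rintro ⟨h7, -⟩
        omega
  rw [e1, e2]
  by_cases hj : b.testBit j = true
  · rw [if_neg (by rw [hj]; simp), zero_add]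
    simp only [hj, if_true]
    by_cases h6 : en b n i = j
    · rw [if_pos h6, mul_one, if_pos]
      refine ⟨Fin.le_def.2 (by omega), fun k hk1 hk2 => h5 k hk1 ?_⟩
      rw [Fin.lt_def] at hk2
      omega
    · rw [if_neg h6, mul_zero, if_neg]
      rintro ⟨h7, h8⟩
      rcases lt_trichotomy (en b n i) j with h9 | h9 | h9
      · have := h8 ⟨en b n i, h3⟩ (Fin.le_def.2 h2) (Fin.lt_def.2 h9)
        simp only at this
        rw [h4] at this
        exact Bool.noConfusion this
      · exact h6 h9
      · rw [h5 j (Fin.le_def.1 h7) h9] at hj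
        exact Bool.noConfusion hj
  · have hj' : b.testBit j = false := by simpa using hj
    have h6 : en b n i ≠ j := fun h => by rw [h] at h4; exact hj h4
    rw [if_neg h6, mul_zero, add_zero]
    simp only [hj', and_true]
    rfl

end Cfsg.Agent.H934.MF
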