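import Cfsg.Agent.H934.MF.Two

/-!
# Products of two irreducible classes over the field with two elements: the table and the theorem
-/

set_option autoImplicit false

namespace Cfsg.Agent.H934.MF

open Matrix Polynomial

/-- unpacking of rows of eight bits -/
def unp : ℕ → ℕ → List ℕ
  | 0, _ => []
  | k + 1, w => (w % 256) :: unp k (w / 256)

theorem length_unp : ∀ k w, (unp k w).length = k
  | 0, _ => rfl
  | k + 1, w => by rw [unp, List.length_cons, length_unp k]

/-- the property of the block companion matrix -/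
def GoodB (n : ℕ) (l₁ l₂ : List Bool) (b c : ℕ) : Prop :=
  ∃ X Y : List ℕ, X.length = n ∧ Y.length = n ∧ mulR X Y = rowsB n b c ∧ kr X l₁ 1 0 = true ∧ kr Y l₂ 1 0 = true

/-- check of one certificate -/
def okC (n : ℕ) (l₁ l₂ : List Bool) (b c w : ℕ) : Bool :=
  (mulR (unp n (w % 18446744073709551616)) (unp n (w / 18446744073709551616)) == rowsB n b c) &&
    (kr (unp n (w % 18446744073709551616)) l₁ 1 0 && kr (unp n (w / 18446744073709551616)) l₂ 1 0)

theorem good_of_okC {n : ℕ} {l₁ l₂ : List Bool} {b c w : ℕ} (h : okC n l₁ l₂ b c w = true) : GoodB n l₁ l₂ b c := by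
  rw [okC, Bool.and_eq_true, Bool.and_eq_true, beq_iff_eq] at h
  exact ⟨_, _, length_unp _ _, length_unp _ _, h.1, h.2.1, h.2.2⟩

/-- starts of the blocks -/
def stB (n b : ℕ) : ℕ := (2 * b + 1) % 2 ^ n

/-- check of the certificates of all `c` -/
def chkC (n : ℕ) (l₁ l₂ : List Bool) (ex : ℕ → ℕ → Bool) (b : ℕ) : List ℕ → ℕ → Bool
  | [], _ => true
  | c :: cs, w =>
    if c &&& stB n b = stB n b then
      if ex b c = true then chkC n l₁ l₂ ex b cs w
      else okC n l₁ l₂ b c (w % 340282366920938463463374607431768211456) &&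
        chkC n l₁ l₂ ex b cs (w / 340282366920938463463374607431768211456)
    else chkC n l₁ l₂ ex b cs w

theorem chkC_spec {n : ℕ} {l₁ l₂ : List Bool} {ex : ℕ → ℕ → Bool} {b : ℕ} : ∀ (cs : List ℕ) (w : ℕ),
    chkC n l₁ l₂ ex b cs w = true → ∀ c ∈ cs, c &&& stB n b = stB n b → ex b c = false → GoodB n l₁ l₂ b c
  | [], _, _, c, hc, _, _ => absurd hc (List.not_mem_nil)
  | c₀ :: cs, w, h, c, hc, h1, h2 => by
    rw [chkC] at h
    by_cases h3 : c₀ &&& stB n b = stB n b
    · rw [if_pos h3] at h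
      by_cases h4 : ex b c₀ = true
      · rw [if_pos h4] at h
        rcases List.mem_cons.1 hc with rfl | hc
        · rw [h4] at h2; exact Bool.noConfusion h2
        · exact chkC_spec cs w h c hc h1 h2
      · rw [if_neg h4, Bool.and_eq_true] at h
        rcases List.mem_cons.1 hc with rfl | hc
        · exact good_of_okC h.1
        · exact chkC_spec cs _ h.2 c hc h1 h2
    · rw [if_neg h3] at h
      rcases List.mem_cons.1 hc with rfl | hc
      · exact absurd h1 h3
      · exact chkC_spec cs w h c hc h1 h2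

/-- check for the `b` from `b₀` to `b₁` -/
def chkB (n : ℕ) (l₁ l₂ : List Bool) (ex : ℕ → ℕ → Bool) (b₁ : ℕ) : List ℕ → ℕ → Bool
  | [], b => b == b₁
  | t :: ts, b => chkC n l₁ l₂ ex b (List.range (2 ^ n)) t && chkB n l₁ l₂ ex b₁ ts (b + 1)

theorem chkB_spec {n : ℕ} {l₁ l₂ : List Bool} {ex : ℕ → ℕ → Bool} {b₁ : ℕ} : ∀ (ts : List ℕ) (b₀ : ℕ),
    chkB n l₁ l₂ ex b₁ ts b₀ = true → ∀ b, b₀ ≤ b → b < b₁ → ∀ c < 2 ^ n, c &&& stB n b = stB n b →
      ex b c = false → GoodB n l₁ l₂ b c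
  | [], b₀, h, b, h1, h2, _, _, _, _ => by
    rw [chkB, beq_iff_eq] at h
    omega
  | t :: ts, b₀, h, b, h1, h2, c, hc, h3, h4 => by
    rw [chkB, Bool.and_eq_true] at h
    rcases Nat.eq_or_lt_of_le h1 with rfl | h1
    · exact chkC_spec _ _ h.1 c (List.mem_range.2 hc) h3 h4
    · exact chkB_spec ts (b₀ + 1) h.2 b h1 h2 c hc h3 h4

/-- all certificates -/
def AllB (n : ℕ) (l₁ l₂ : List Bool) (ex : ℕ → ℕ → Bool) : Prop :=
  ∀ b, 2 ^ (n - 1) ≤ b → b < 2 ^ n → ∀ c < 2 ^ n, c &&& stB n b = stB n b → ex b c = false → GoodB n l₁ l₂ b c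

theorem bit_eq_one_iff {v j : ℕ} : bit v j = 1 ↔ v.testBit j = true := by
  rw [bit]
  by_cases h : v.testBit j = true <;> simp [h]

/-- the main theorem for block companion matrices -/
theorem exists_prod_blk {n : ℕ} (hn : 0 < n) {l₁ l₂ : List Bool} {ex : ℕ → ℕ → Bool} (hl₁ : l₁.length = n)
    (hl₂ : l₂.length = n) (h₁ : Irreducible (mono (zl l₁))) (h₂ : Irreducible (mono (zl l₂)))
    (hall : AllB n l₁ l₂ ex) (b : Fin n → Bool) (c : Fin n → ZMod 2) (hb : b ⟨n - 1, by omega⟩ = true)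
    (hdet : (blk b c).det ≠ 0)
    (hex : ∀ b' c' : ℕ, ex b' c' = true → (∀ i : Fin n, b i = b'.testBit i) → (∀ i : Fin n, c i = bit c' i) → False) :
    ∃ X Y : Matrix (Fin n) (Fin n) (ZMod 2), blk b c = X * Y ∧ X.charpoly = mono (zl l₁) ∧
      Y.charpoly = mono (zl l₂) := by
  obtain ⟨bN, hbN⟩ : ∃ bN, bN = Nat.ofBits b := ⟨_, rfl⟩
  obtain ⟨cN, hcN⟩ : ∃ cN, cN = Nat.ofBits fun i => decide (c i = 1) := ⟨_, rfl⟩
  have hb' : ∀ i : Fin n, b i = bN.testBit i := fun i => by
    rw [hbN, Nat.testBit_ofBits_lt _ _ i.2]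
  have hc' : ∀ i : Fin n, c i = bit cN i := fun i => by
    rw [bit, hcN, Nat.testBit_ofBits_lt _ _ i.2]
    have : ∀ x : ZMod 2, x = if decide (x = 1) = true then 1 else 0 := by decide
    exact this _
  have hbl : bN < 2 ^ n := by rw [hbN]; exact Nat.ofBits_lt_two_pow _
  have hcl : cN < 2 ^ n := by rw [hcN]; exact Nat.ofBits_lt_two_pow _
  have hbt : bN.testBit (n - 1) = true := by
    rw [← hb, hb' ⟨n - 1, by omega⟩]
  have hbg : 2 ^ (n - 1) ≤ bN := Nat.ge_two_pow_of_testBit hbt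
  have hblk : blk b c = mat n (rowsB n bN cN) := by
    rw [mat_rowsB hbt]
    congr 1
    · funext i; exact hb' i
    · funext i; exact hc' i
  have hst : cN &&& stB n bN = stB n bN := by
    apply Nat.eq_of_testBit_eq
    intro s
    rw [Nat.testBit_and]
    by_cases hs : (stB n bN).testBit s = true
    · rw [hs, Bool.and_true]
      rw [stB, Nat.testBit_mod_two_pow, Bool.and_eq_true, decide_eq_true_iff] at hs
      obtain ⟨hsn, hs⟩ := hs
      by_contra hcs
      have hcs' : c ⟨s, hsn⟩ = 0 := by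
        rw [hc' ⟨s, hsn⟩, bit, if_neg hcs]
      apply hdet
      refine Matrix.det_eq_zero_of_row_eq_zero ⟨s, hsn⟩ fun j => ?_
      rw [blk, Matrix.of_apply]
      by_cases hj : b j = true
      · rw [if_pos hj, hcs', ite_self]
      · rw [if_neg hj, if_neg]
        intro h3
        simp only at h3
        rw [h3] at hs
        have h4 : (2 * bN + 1).testBit (j + 1) = bN.testBit j := by
          rw [Nat.testBit_succ]
          congr 1
          omega
        rw [h4, ← hb' j] at hs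
        exact hj hs
    · simp only [Bool.not_eq_true] at hs
      rw [hs, Bool.and_false]
  have hexf : ex bN cN = false := by
    by_contra hcon
    exact hex bN cN (by simpa using hcon) hb' hc'
  obtain ⟨X, Y, hX, hY, hXY, k1, k2⟩ := hall bN hbg hbl cN hcl hst hexf
  refine ⟨mat n X, mat n Y, ?_, charpoly_of_kr hn hX hl₁ h₁ k1, charpoly_of_kr hn hY hl₂ h₂ k2⟩
  rw [hblk, ← hXY, mat_mulR hX hY]

/-- the exceptional pair of the identity matrix -/
def exOne (n b c : ℕ) : Bool := (b == 2 ^ n - 1) && (c == 2 ^ n - 1)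

/-- **Main theorem.** -/
theorem exists_prod {n : ℕ} (hn : 0 < n) {l₁ l₂ : List Bool} (hl₁ : l₁.length = n)
    (hl₂ : l₂.length = n) (h₁ : Irreducible (mono (zl l₁))) (h₂ : Irreducible (mono (zl l₂)))
    (hall : AllB n l₁ l₂ (exOne n)) (A : Matrix (Fin n) (Fin n) (ZMod 2)) (hA : A.det ≠ 0) (hA1 : A ≠ 1) :
    ∃ X Y : Matrix (Fin n) (Fin n) (ZMod 2), A = X * Y ∧ X.charpoly = mono (zl l₁) ∧
      Y.charpoly = mono (zl l₂) := by
  obtain ⟨b, c, P, hb, hP, hAP⟩ := exists_blk hn A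
  have hu : IsUnit P.det := hP.isUnit
  have hA' : A = P * blk b c * P⁻¹ := by
    rw [← hAP, Matrix.mul_assoc, Matrix.mul_nonsing_inv _ hu, Matrix.mul_one]
  have hdet : (blk b c).det ≠ 0 := by
    intro h0
    have h1 := congrArg Matrix.det hAP
    rw [Matrix.det_mul, Matrix.det_mul, h0, mul_zero] at h1
    exact mul_ne_zero hA hP h1
  obtain ⟨X, Y, e, hX, hY⟩ := exists_prod_blk hn hl₁ hl₂ h₁ h₂ hall b c hb hdet (by
    intro b' c' hex hb' hc'
    rw [exOne, Bool.and_eq_true, beq_iff_eq, beq_iff_eq] at hex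
    obtain ⟨rfl, rfl⟩ := hex
    apply hA1
    have hones : ∀ i : Fin n, (2 ^ n - 1).testBit i = true := fun i => by
      rw [Nat.testBit_two_pow_sub_one]
      exact decide_eq_true i.2
    have h1 : blk b c = 1 := by
      ext i j
      rw [blk, Matrix.of_apply, hb' j, hones j, if_pos rfl, hc' i, bit_eq_one_iff.2 (hones i)]
      by_cases hij : i = j
      · rw [if_pos, hij, Matrix.one_apply_eq]
        rw [hij]
        exact ⟨le_rfl, fun k h2 h3 => absurd h3 (not_lt.2 h2)⟩
      · rw [if_neg, Matrix.one_apply_ne hij]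
        rintro ⟨h2, h3⟩
        have h4 := h3 i le_rfl (lt_of_le_of_ne h2 hij)
        rw [hb' i, hones i] at h4
        exact Bool.noConfusion h4
    rw [hA', h1, Matrix.mul_one, Matrix.mul_nonsing_inv _ hu])
  have hconj : ∀ Z : Matrix (Fin n) (Fin n) (ZMod 2), (P * Z * P⁻¹).charpoly = Z.charpoly := fun Z =>
    Matrix.charpoly_units_conj (M := Matrix.nonsingInvUnit P hu) Z
  refine ⟨P * X * P⁻¹, P * Y * P⁻¹, ?_, by rw [hconj, hX], by rw [hconj, hY]⟩
  rw [hA', e]
  calc P * (X * Y) * P⁻¹ = P * X * (1 * Y) * P⁻¹ := by rw [Matrix.one_mul]; simp only [Matrix.mul_assoc]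
    _ = P * X * P⁻¹ * (P * Y * P⁻¹) := by
      rw [← Matrix.nonsing_inv_mul _ hu]; simp only [Matrix.mul_assoc]

end Cfsg.Agent.H934.MF
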